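import Mathlib
import Cfsg.Agent.Ree.LBlock
import Cfsg.Agent.Blocks.UniqueBlock
import Cfsg.Agent.H225.AxB
import Cfsg.Agent.S0928
import Cfsg.Agent.S0923
import Cfsg.Agent.Lib.Cores

/-!
# TEAM EB, T03 (C2): groups with one block and Brauer's second main theorem (helper104)

* `oneBlock_of_constrained`
* `vanish`
* `heredity` : `C(x)` has characteristic `p` if `C(x) ≤ C(t)` and `C(t)` has characteristic `p`
* `defectZero_of_charTwo`
-/

set_option autoImplicit false

namespace Cfsg.Agent.H104.EB.COne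

open Cfsg Cfsg.Agent.Blocks Cfsg.Agent.Blocks.Basic Cfsg.Agent.Blocks.Local
open scoped ComplexConjugate

universe u

/-- `C` has only one `p`-block -/
def OneBlock (M : Ideal AlgInt) (C : Type u) [Group C] : Prop :=
  ∀ χ : IrrCharacter C, χ ∈ principalBlock M C

section
variable {S : Type u} [Group S] [Finite S] {M : Ideal AlgInt} {p : ℕ}

/-- a normal self-centralizing `p`-subgroup: one block -/
theorem oneBlock_of_constrained (hM : IsPModular p M) (E : Subgroup S) [E.Normal] (hE : IsPGroup p E)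
    (hC : Subgroup.centralizer (E : Set S) ≤ E) : OneBlock M S := by
  have : Fact p.Prime := ⟨hM.1⟩
  intro χ
  exact Cfsg.Agent.Blocks.UniqueBlock.sameBlock_of_centralizer_le hM E hE hC
    ⟨fun _ => 1, Characters.Core.isIrr_one⟩ χ

/-- **Brauer's second main theorem for a centralizer with one block** -/
theorem vanish (hM : IsPModular p M) (χ : IrrCharacter S) (hχ : χ ∉ principalBlock M S) (x : S)
    (hx : ∃ j : ℕ, orderOf x = p ^ j) (hC : OneBlock M (Subgroup.centralizer ({x} : Set S))) (s : S)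
    (hs : IsPRegular p s) (hxs : Commute x s) : (χ : S → ℂ) (x * s) = 0 := by
  classical
  have : Fact p.Prime := ⟨hM.1⟩
  have := isPrime_of_isPModular hM
  have hsC : s ∈ Subgroup.centralizer ({x} : Set S) := by
    rw [Subgroup.mem_centralizer_singleton_iff]
    exact hxs.eq.symm
  have hos : ¬ p ∣ orderOf (⟨s, hsC⟩ : Subgroup.centralizer ({x} : Set S)) := by
    rw [← Subgroup.orderOf_coe]
    exact hs
  have h1 := S0923.result p M hM x hx (blockOf M (χ : S → ℂ)) (isPBlock_blockOf χ) χ
      (mem_blockOf_self χ) _ PrincipalSection.isPBlock_principalBlock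
      (Ree.LBlock.not_isInducedBlock hM hx hχ) ⟨s, hsC⟩ hos
  have huniv : principalBlock M (Subgroup.centralizer ({x} : Set S)) = Set.univ :=
    Set.eq_univ_iff_forall.2 hC
  rw [huniv] at h1
  let _ := Fintype.ofFinite (Subgroup.centralizer ({x} : Set S))
  have : Finite (IrrCharacter (Subgroup.centralizer ({x} : Set S))) := Characters.Core.finite_irr
  let _ := Fintype.ofFinite (IrrCharacter (Subgroup.centralizer ({x} : Set S)))
  obtain ⟨θ, hθ⟩ : ∃ θ : Subgroup.centralizer ({x} : Set S) → ℂ, θ = fun c : Subgroup.centralizer ({x} : Set S) => (χ : S → ℂ) (x * (c : S)) := ⟨_, rfl⟩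
  have hcl : IsClassFunction (Subgroup.centralizer ({x} : Set S)) θ := by
    intro b a
    have h2 := Characters.Core.isIrr_isClassFunction χ.2 (x * (b : S)) (a : S)
    have h3 : (a : S) * (x * b) * (a : S)⁻¹ = x * ((a * b * a⁻¹ : Subgroup.centralizer ({x} : Set S)) : S) := by
      have h4 : (a : S) * x = x * a := Subgroup.mem_centralizer_singleton_iff.1 a.2
      calc (a : S) * (x * b) * (a : S)⁻¹ = ((a : S) * x) * b * (a : S)⁻¹ := by group
        _ = x * ((a * b * a⁻¹ : Subgroup.centralizer ({x} : Set S)) : S) := by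
            rw [h4]
            push_cast
            group
    rw [hθ]
    show (χ : S → ℂ) (x * ((a * b * a⁻¹ : Subgroup.centralizer ({x} : Set S)) : S)) = (χ : S → ℂ) (x * (b : S))
    rw [← h3]
    exact h2
  have h2 := congrFun (Characters.Core.classFunction_eq_sum hcl) ⟨s, hsC⟩
  have h3 : ∑ᶠ ψ ∈ (Set.univ : Set (IrrCharacter (Subgroup.centralizer ({x} : Set S)))),
      classInner θ (ψ : Subgroup.centralizer ({x} : Set S) → ℂ) * (ψ : Subgroup.centralizer ({x} : Set S) → ℂ) ⟨s, hsC⟩ = 0 := by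
    rw [hθ]
    exact h1
  rw [finsum_mem_univ, finsum_eq_sum_of_fintype] at h3
  have h4 : θ ⟨s, hsC⟩ = 0 := by
    rw [h2, Finset.sum_apply, ← h3]
    rfl
  rw [hθ] at h4
  exact h4

open Subgroup

omit [Finite S] in
theorem mem_centralizer_singleton {x y : S} : y ∈ centralizer ({x} : Set S) ↔ y * x = x * y :=
  Subgroup.mem_centralizer_singleton_iff

/-- **heredity of characteristic `p`** -/
theorem heredity [hp : Fact p.Prime] {t x : S} (hxt : centralizer ({x} : Set S) ≤ centralizer ({t} : Set S))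
    (hx : ∃ j : ℕ, orderOf x = p ^ j) (E : Subgroup (centralizer ({t} : Set S))) [hEn : E.Normal] (hE : IsPGroup p E)
    (hC : centralizer (E : Set (centralizer ({t} : Set S))) ≤ E) :
    centralizer (pCore p (centralizer ({x} : Set S)) : Set (centralizer ({x} : Set S))) ≤
      pCore p (centralizer ({x} : Set S)) := by
  obtain ⟨j, hj⟩ := hx
  have hxx : x ∈ centralizer ({x} : Set S) := by rw [mem_centralizer_singleton]
  obtain ⟨V, hV⟩ : ∃ V : Subgroup S, V = E.map (centralizer ({t} : Set S)).subtype := ⟨_, rfl⟩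
  have hVp : IsPGroup p V := by rw [hV]; exact hE.map _
  have hmV : ∀ v : S, v ∈ V ↔ ∃ h : v ∈ centralizer ({t} : Set S), (⟨v, h⟩ : centralizer ({t} : Set S)) ∈ E := by
    intro v
    rw [hV, Subgroup.mem_map]
    constructor
    · rintro ⟨w, hw, rfl⟩
      exact ⟨w.2, hw⟩
    · rintro ⟨h, hw⟩
      exact ⟨⟨v, h⟩, hw, rfl⟩
  have hnV : centralizer ({t} : Set S) ≤ normalizer (V : Set S) := by
    intro g hg
    rw [Subgroup.mem_normalizer_iff]
    have h1 : ∀ g ∈ centralizer ({t} : Set S), ∀ v ∈ V, g * v * g⁻¹ ∈ V := by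
      intro g hg v hv
      obtain ⟨h, hE'⟩ := (hmV v).1 hv
      rw [hmV]
      exact ⟨mul_mem (mul_mem hg h) (inv_mem hg), hEn.conj_mem _ hE' ⟨g, hg⟩⟩
    intro v
    refine ⟨h1 g hg v, fun h => ?_⟩
    have h2 := h1 g⁻¹ (inv_mem hg) _ h
    simpa [mul_assoc] using h2
  have hK := Lib.Cores.pCore_normal (G := centralizer ({x} : Set S)) p
  -- `x` and `V ∩ C(x)` lie in `O_p(C(x))`
  have hxK : (⟨x, hxx⟩ : centralizer ({x} : Set S)) ∈ pCore p (centralizer ({x} : Set S)) := by
    have h1 : (Subgroup.zpowers (⟨x, hxx⟩ : centralizer ({x} : Set S))).Normal := by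
      refine ⟨fun n hn g => ?_⟩
      obtain ⟨i, rfl⟩ := Subgroup.mem_zpowers_iff.1 hn
      have h2 : Commute g (⟨x, hxx⟩ : centralizer ({x} : Set S)) :=
        Subtype.ext (mem_centralizer_singleton.1 g.2)
      rw [(h2.zpow_right i).eq, mul_assoc, mul_inv_cancel, mul_one]
      exact hn
    have h2 : IsPGroup p (Subgroup.zpowers (⟨x, hxx⟩ : centralizer ({x} : Set S))) := by
      apply IsPGroup.of_card (n := j)
      rw [Nat.card_zpowers, Subgroup.orderOf_mk, hj]
    exact Lib.Cores.le_pCore h1 h2 (Subgroup.mem_zpowers _)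
  have hVK : ∀ v (hv : v ∈ V) (hvx : v ∈ centralizer ({x} : Set S)),
      (⟨v, hvx⟩ : centralizer ({x} : Set S)) ∈ pCore p (centralizer ({x} : Set S)) := by
    intro v hv hvx
    have h1 : (V.subgroupOf (centralizer ({x} : Set S))).Normal := by
      refine ⟨fun n hn g => ?_⟩
      rw [Subgroup.mem_subgroupOf] at hn ⊢
      exact (Subgroup.mem_normalizer_iff.1 (hnV (hxt g.2)) _).1 hn
    have h2 : IsPGroup p (V.subgroupOf (centralizer ({x} : Set S))) :=
      hVp.comap_subtype
    exact Lib.Cores.le_pCore h1 h2 (Subgroup.mem_subgroupOf.2 hv)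
  -- elements of order prime to `p`
  have key : ∀ y : centralizer ({x} : Set S), y ∈ centralizer (pCore p (centralizer ({x} : Set S)) :
      Set (centralizer ({x} : Set S))) → (orderOf y).Coprime p → y = 1 := by
    intro y hy hcop
    have hyt : (y : S) ∈ centralizer ({t} : Set S) := hxt y.2
    have h1 : (y : S) ∈ centralizer (V : Set S) := by
      refine H225.AxB.axb (p := p) (V := V) (D := Subgroup.zpowers x) hVp ?_ ?_ (hnV hyt) ?_ ?_ ?_
      · rw [Subgroup.zpowers_le]
        exact hnV (hxt hxx)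
      · intro d hd
        refine ⟨j, ?_⟩
        have h2 : d ^ p ^ j = 1 := by
          obtain ⟨i, rfl⟩ := Subgroup.mem_zpowers_iff.1 hd
          rw [← zpow_natCast, ← zpow_mul, mul_comm, zpow_mul, zpow_natCast, ← hj, pow_orderOf_eq_one, one_zpow]
        rw [h2]
        exact one_mem _
      · rw [Subgroup.orderOf_coe]
        exact hcop
      · intro d hd
        obtain ⟨i, rfl⟩ := Subgroup.mem_zpowers_iff.1 hd
        have h2 : Commute (y : S) x := mem_centralizer_singleton.1 y.2
        rw [← (h2.zpow_right i).eq, mul_inv_cancel_right, mul_inv_cancel]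
        exact one_mem _
      · intro v hv hd
        have h2 : v ∈ centralizer ({x} : Set S) := by
          rw [mem_centralizer_singleton]
          exact (hd x (Subgroup.mem_zpowers x)).symm
        have h3 := Subgroup.mem_centralizer_iff.1 hy _ (hVK v hv h2)
        exact (congrArg Subtype.val h3).symm
    have h2 : (⟨(y : S), hyt⟩ : centralizer ({t} : Set S)) ∈ E := by
      apply hC
      rw [Subgroup.mem_centralizer_iff]
      intro e he
      exact Subtype.ext (Subgroup.mem_centralizer_iff.1 h1 (e : S) ((hmV _).2 ⟨e.2, he⟩))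
    obtain ⟨k, hk⟩ := hE ⟨_, h2⟩
    have h3 : (y : S) ^ p ^ k = 1 := by
      have := congrArg (fun z : E => ((z : centralizer ({t} : Set S)) : S)) hk
      exact this
    have h4 : orderOf (y : S) ∣ p ^ k := orderOf_dvd_of_pow_eq_one h3
    rw [Subgroup.orderOf_coe] at h4
    have h5 : orderOf y = 1 := Nat.eq_one_of_dvd_coprimes (hcop.pow_right k) dvd_rfl h4
    exact orderOf_eq_one_iff.1 h5
  refine Lib.Cores.le_pCore inferInstance ?_
  intro y
  obtain ⟨k, m, hm, hkm⟩ := Nat.exists_eq_pow_mul_and_not_dvd (orderOf_pos y.1).ne' p hp.out.ne_one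
  refine ⟨k, ?_⟩
  apply Subtype.ext
  show y.1 ^ p ^ k = 1
  refine key _ (pow_mem y.2 _) ?_
  rw [orderOf_pow' _ (pow_ne_zero _ hp.out.ne_zero), hkm, Nat.gcd_eq_right (Dvd.intro _ rfl),
    Nat.mul_div_cancel_left _ (pow_pos hp.out.pos _)]
  exact ((Nat.Prime.coprime_iff_not_dvd hp.out).2 hm).symm

/-- **(C2)** groups of characteristic 2 type: every character outside the principal block has defect zero -/
theorem defectZero_of_charTwo (hM : IsPModular 2 M)
    (h : ∀ t : S, orderOf t = 2 → ∃ E : Subgroup (Subgroup.centralizer ({t} : Set S)), E.Normal ∧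
      IsPGroup 2 E ∧ Subgroup.centralizer (E : Set (Subgroup.centralizer ({t} : Set S))) ≤ E)
    (χ : IrrCharacter S) (hχ : χ ∉ principalBlock M S) :
    (∀ g : S, Even (orderOf g) → (χ : S → ℂ) g = 0) ∧
      (Nat.card S).factorization 2 = (charDegree (χ : S → ℂ)).factorization 2 := by
  have : Fact (Nat.Prime 2) := ⟨Nat.prime_two⟩
  have h1 : ∀ g : S, Even (orderOf g) → (χ : S → ℂ) g = 0 := by
    intro g hg
    obtain ⟨x, s, rfl, hxs, ⟨j, hj⟩, hs⟩ := PPart.exists_isPPart 2 g
    have hj0 : j ≠ 0 := by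
      rintro rfl
      rw [pow_zero, orderOf_eq_one_iff] at hj
      subst hj
      rw [one_mul] at hg
      exact hs hg.two_dvd
    obtain ⟨i, rfl⟩ := Nat.exists_eq_succ_of_ne_zero hj0
    have ht : orderOf (x ^ 2 ^ i) = 2 := by
      rw [orderOf_pow' _ (by positivity), hj, Nat.succ_eq_add_one, pow_succ, Nat.gcd_eq_right (Dvd.intro _ rfl),
        Nat.mul_div_cancel_left _ (by positivity)]
    have hle : centralizer ({x} : Set S) ≤ centralizer ({x ^ 2 ^ i} : Set S) := by
      intro y hy
      rw [mem_centralizer_singleton] at hy ⊢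
      exact (show Commute y x from hy).pow_right _
    obtain ⟨E, hEn, hE, hEC⟩ := h _ ht
    have hcp := heredity hle ⟨_, hj⟩ E hE hEC
    have hKn := Lib.Cores.pCore_normal (G := centralizer ({x} : Set S)) 2
    refine vanish hM χ hχ x ⟨_, hj⟩ ?_ s hs hxs
    exact oneBlock_of_constrained hM _ (Lib.Cores.pCore_isPGroup 2) hcp
  refine ⟨h1, ?_⟩
  exact (S0928.result 2 χ fun g hg => h1 g (by rw [hg]; exact even_two)).symm

end

end Cfsg.Agent.H104.EB.COne
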